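import Mathlib
import Cfsg.Agent.Lib.Helper12.NseA

set_option autoImplicit false
set_option linter.unusedVariables false

namespace Cfsg.Agent.Lib.Helper22.SOTC
open Cfsg.Agent.Lib.Helper12.Nse

/-- **C** `N` odd: no three distinct primes (from C1 `uniform` and C2 `ppart`, taken as hypotheses) -/
theorem C_odd_of {N : ℕ} {s : ℕ → ℕ} (h : NseSys N s) (hodd : Odd N) (m n : ℕ)
    (hV : ∀ d, 3 ≤ d → s d = 0 ∨ s d = m ∨ s d = n)
    (C1 : ∀ p q r : ℕ, p.Prime → q.Prime → r.Prime → p ≠ q → p ≠ r → q ≠ r → p ∣ N → q ∣ N → r ∣ N →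
      s p = s q ∧ s q = s r)
    (C2 : ∀ p q r : ℕ, p.Prime → q.Prime → r.Prime → p ≠ q → p ≠ r → q ≠ r → p ∣ N → q ∣ N → r ∣ N →
      ∀ v : ℕ, s p = v → s q = v → s r = v → p ^ N.factorization p ∣ 1 + v)
    (p q r : ℕ) (hp : p.Prime) (hq : q.Prime) (hr : r.Prime) (hpq : p ≠ q) (hpr : p ≠ r) (hqr : q ≠ r)
    (hpN : p ∣ N) (hqN : q ∣ N) (hrN : r ∣ N) : False := by
  have hN0 : N ≠ 0 := h.Npos.ne'
  obtain ⟨e1, e2⟩ := C1 p q r hp hq hr hpq hpr hqr hpN hqN hrN
  set v := s p with hv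
  have hsq : s q = v := e1.symm
  have hsr : s r = v := by rw [← e2, hsq]
  -- every prime has count `v` and its full power divides `1 + v`
  have key : ∀ t : ℕ, t.Prime → t ∣ N → t ^ N.factorization t ∣ 1 + v := by
    intro t ht htN
    by_cases htp : t = p
    · subst htp
      exact C2 t q r ht hq hr hpq hpr hqr htN hqN hrN v rfl hsq hsr
    by_cases htq : t = q
    · subst htq
      exact C2 t p r ht hp hr (Ne.symm hpq) hqr hpr htN hpN hrN v hsq rfl hsr
    by_cases htr : t = r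
    · subst htr
      exact C2 t p q ht hp hq (Ne.symm hpr) (Ne.symm hqr) hpq htN hpN hqN v hsr rfl hsq
    · obtain ⟨f1, f2⟩ := C1 p q t hp hq ht hpq (Ne.symm htp) (Ne.symm htq) hpN hqN htN
      have hst : s t = v := by rw [← f2, hsq]
      exact C2 t p q ht hp hq htp htq hpq htN hpN hqN v hst rfl hsq
  have hdiv : N ∣ 1 + v := by
    rw [Nat.dvd_iff_prime_pow_dvd_dvd]
    intro t k ht htk
    rcases Nat.eq_zero_or_pos k with rfl | hk
    · simp
    · have htN : t ∣ N := (dvd_pow_self t hk.ne').trans htk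
      have hle : k ≤ N.factorization t := (ht.pow_dvd_iff_le_factorization hN0).mp htk
      exact (pow_dvd_pow t hle).trans (key t ht htN)
  have hsum : ∑ k ∈ N.divisors, s k = N := by
    apply h.sum
    intro k hk
    exact Nat.mem_divisors.mpr ⟨h.dvd k hk, hN0⟩
  have hsub : ({1, p, q} : Finset ℕ) ⊆ N.divisors := by
    intro x hx
    simp only [Finset.mem_insert, Finset.mem_singleton] at hx
    rcases hx with rfl | rfl | rfl
    · exact Nat.mem_divisors.mpr ⟨one_dvd _, hN0⟩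
    · exact Nat.mem_divisors.mpr ⟨hpN, hN0⟩
    · exact Nat.mem_divisors.mpr ⟨hqN, hN0⟩
  have hle : ∑ k ∈ ({1, p, q} : Finset ℕ), s k ≤ N := by
    rw [← hsum]
    exact Finset.sum_le_sum_of_subset hsub
  have h1p : (1 : ℕ) ≠ p := fun hh => hp.one_lt.ne hh
  have h1q : (1 : ℕ) ≠ q := fun hh => hq.one_lt.ne hh
  rw [Finset.sum_insert (by simp [h1p, h1q]), Finset.sum_insert (by simp [hpq]), Finset.sum_singleton,
    h.m_one, hsq] at hle
  have hle2 : N ≤ 1 + v := Nat.le_of_dvd (by omega) hdiv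
  have hv0 : v = 0 := by omega
  exact h.cauchy p hp hpN hv0

end Cfsg.Agent.Lib.Helper22.SOTC
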