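import Mathlib
import Cfsg.Agent.Lib.Helper12.NseA

/-!
S3996, leaf A (helper22 copy): unique involution, `4 ∣ N`: at most one odd prime.  Pure arithmetic over `NseSys N s`.
-/

set_option autoImplicit false
set_option linter.unusedVariables false

namespace Cfsg.Agent.Lib.Helper22.SOT
open Cfsg.Agent.Lib.Helper12.Nse Finset

theorem sum_divisors_mul_coprime22 {a b : ℕ} (hab : a.Coprime b) (f : ℕ → ℕ) :
    ∑ d ∈ (a * b).divisors, f d = ∑ x ∈ a.divisors, ∑ y ∈ b.divisors, f (x * y) := by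
  rw [hab.divisors_mul, Finset.sum_map]
  show ∑ x ∈ (a.divisors ×ˢ b.divisors).attach, f (x.1.1 * x.1.2) = _
  rw [Finset.sum_attach (a.divisors ×ˢ b.divisors) (fun p => f (p.1 * p.2)), Finset.sum_product]

theorem divisors_four22 : Nat.divisors 4 = {1, 2, 4} := by decide

/-- Frobenius at a prime -/
theorem frobP {N : ℕ} {s : ℕ → ℕ} (h : NseSys N s) {p : ℕ} (hp : p.Prime) (hpN : p ∣ N) : p ∣ 1 + s p := by
  have := h.frob p hpN
  rw [Nat.Prime.sum_divisors hp, h.m_one, add_comm] at this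
  exact this

/-- Frobenius at `p q` -/
theorem frobPQ {N : ℕ} {s : ℕ → ℕ} (h : NseSys N s) {p q : ℕ} (hp : p.Prime) (hq : q.Prime) (hpq : p ≠ q)
    (hN : p * q ∣ N) : p * q ∣ 1 + s p + s q + s (p * q) := by
  have := h.frob (p * q) hN
  rw [sum_divisors_mul_coprime22 ((Nat.coprime_primes hp hq).mpr hpq), Nat.Prime.sum_divisors hp] at this
  simp only [Nat.Prime.sum_divisors hq, one_mul, mul_one, h.m_one] at this
  have e : s (p * q) + s p + (s q + 1) = 1 + s p + s q + s (p * q) := by ring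
  rwa [e] at this

/-- Frobenius at `4 p` -/
theorem frob4P {N : ℕ} {s : ℕ → ℕ} (h : NseSys N s) {p : ℕ} (hp : p.Prime) (hp2 : p ≠ 2) (hN : 4 * p ∣ N) :
    4 * p ∣ 1 + s 2 + s 4 + s p + s (2 * p) + s (4 * p) := by
  have := h.frob (4 * p) hN
  have hcop : Nat.Coprime 4 p := by
    have : Nat.Coprime 2 p := (Nat.coprime_primes Nat.prime_two hp).mpr (Ne.symm hp2)
    exact Nat.Coprime.pow_left 2 this
  rw [sum_divisors_mul_coprime22 hcop, divisors_four22] at this
  simp only [Nat.Prime.sum_divisors hp] at this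
  have e : ∑ x ∈ ({1, 2, 4} : Finset ℕ), (s (x * p) + s (x * 1)) =
      1 + s 2 + s 4 + s p + s (2 * p) + s (4 * p) := by
    rw [Finset.sum_insert (by decide), Finset.sum_insert (by decide), Finset.sum_singleton]
    simp only [one_mul, mul_one, h.m_one]
    ring
  rwa [e] at this

/-- Frobenius at `4 p q` -/
theorem frob4PQ {N : ℕ} {s : ℕ → ℕ} (h : NseSys N s) {p q : ℕ} (hp : p.Prime) (hq : q.Prime) (hp2 : p ≠ 2)
    (hq2 : q ≠ 2) (hpq : p ≠ q) (hN : 4 * (p * q) ∣ N) :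
    4 * (p * q) ∣ 1 + s 2 + s 4 + (s p + s (2 * p) + s (4 * p)) + (s q + s (2 * q) + s (4 * q)) +
      (s (p * q) + s (2 * (p * q)) + s (4 * (p * q))) := by
  have := h.frob (4 * (p * q)) hN
  have hc2p : Nat.Coprime 2 p := (Nat.coprime_primes Nat.prime_two hp).mpr (Ne.symm hp2)
  have hc2q : Nat.Coprime 2 q := (Nat.coprime_primes Nat.prime_two hq).mpr (Ne.symm hq2)
  have hcop : Nat.Coprime 4 (p * q) := by
    have : Nat.Coprime 2 (p * q) := Nat.Coprime.mul_right hc2p hc2q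
    exact Nat.Coprime.pow_left 2 this
  rw [sum_divisors_mul_coprime22 hcop, divisors_four22] at this
  have e2 : ∀ x : ℕ, ∑ y ∈ (p * q).divisors, s (x * y) =
      s (x * (p * q)) + s (x * p) + (s (x * q) + s x) := by
    intro x
    rw [sum_divisors_mul_coprime22 ((Nat.coprime_primes hp hq).mpr hpq) (fun y => s (x * y)),
      Nat.Prime.sum_divisors hp]
    simp only [Nat.Prime.sum_divisors hq, one_mul, mul_one]
  simp only [e2] at this
  rw [Finset.sum_insert (by decide), Finset.sum_insert (by decide), Finset.sum_singleton] at this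
  simp only [one_mul, h.m_one] at this
  have e : s (p * q) + s p + (s q + 1) + (s (2 * (p * q)) + s (2 * p) + (s (2 * q) + s 2) +
      (s (4 * (p * q)) + s (4 * p) + (s (4 * q) + s 4))) =
      1 + s 2 + s 4 + (s p + s (2 * p) + s (4 * p)) + (s q + s (2 * q) + s (4 * q)) +
      (s (p * q) + s (2 * (p * q)) + s (4 * (p * q))) := by ring
  rwa [e] at this

/-- `4 ∣ s (4 d)` for odd `d ≥ 3` -/
theorem four_dvd_s {N : ℕ} {s : ℕ → ℕ} (h : NseSys N s) (d : ℕ) (hd : Odd d) (hd3 : 3 ≤ d) : 4 ∣ s (4 * d) := by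
  have hcop : Nat.Coprime 4 d := by
    have : Nat.Coprime 2 d := Nat.Coprime.symm (Odd.coprime_two_right hd)
    exact Nat.Coprime.pow_left 2 this
  have h1 : Nat.totient (4 * d) = Nat.totient 4 * Nat.totient d := Nat.totient_mul hcop
  have h2 : Nat.totient 4 = 2 := by decide
  have h3 : Even (Nat.totient d) := Nat.totient_even (by omega)
  obtain ⟨c, hc⟩ := h3
  have h4 : (4 : ℕ) ∣ Nat.totient (4 * d) := by
    rw [h1, h2, hc]
    exact ⟨c, by ring⟩
  exact h4.trans (h.tot _)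

/-- the four residue relations modulo `p` -/
theorem relsP {N : ℕ} {s : ℕ → ℕ} (h : NseSys N s) (h4 : 4 ∣ N) (h2 : s 2 = 1)
    (hdbl : ∀ d, Odd d → s (2 * d) = s d) (m : ℕ) (hs4 : s 4 = m)
    (p q : ℕ) (hp : p.Prime) (hq : q.Prime) (hp2 : p ≠ 2) (hq2 : q ≠ 2) (hpq : p ≠ q)
    (hpN : p ∣ N) (hqN : q ∣ N) :
    (1 + (s p : ZMod p) = 0) ∧ ((m : ZMod p) + (s (4 * p) : ZMod p) = 0) ∧
      ((s q : ZMod p) + (s (p * q) : ZMod p) = 0) ∧
      ((s (4 * q) : ZMod p) + (s (4 * (p * q)) : ZMod p) = 0) := by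
  have hpodd : Odd p := hp.odd_of_ne_two hp2
  have hqodd : Odd q := hq.odd_of_ne_two hq2
  have hc2p : Nat.Coprime 2 p := (Nat.coprime_primes Nat.prime_two hp).mpr (Ne.symm hp2)
  have hc2q : Nat.Coprime 2 q := (Nat.coprime_primes Nat.prime_two hq).mpr (Ne.symm hq2)
  have hc4p : Nat.Coprime 4 p := Nat.Coprime.pow_left 2 hc2p
  have hcpq : Nat.Coprime p q := (Nat.coprime_primes hp hq).mpr hpq
  have hc4pq : Nat.Coprime 4 (p * q) := Nat.Coprime.pow_left 2 (Nat.Coprime.mul_right hc2p hc2q)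
  have hpqN : p * q ∣ N := Nat.Coprime.mul_dvd_of_dvd_of_dvd hcpq hpN hqN
  have h4pN : 4 * p ∣ N := Nat.Coprime.mul_dvd_of_dvd_of_dvd hc4p h4 hpN
  have h4pqN : 4 * (p * q) ∣ N := Nat.Coprime.mul_dvd_of_dvd_of_dvd hc4pq h4 hpqN
  have e1 : ((1 + s p : ℕ) : ZMod p) = 0 := (ZMod.natCast_eq_zero_iff _ p).mpr (frobP h hp hpN)
  have e2 : ((1 + s 2 + s 4 + s p + s (2 * p) + s (4 * p) : ℕ) : ZMod p) = 0 :=
    (ZMod.natCast_eq_zero_iff _ p).mpr ((Dvd.intro_left 4 rfl).trans (frob4P h hp hp2 h4pN))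
  have e3 : ((1 + s p + s q + s (p * q) : ℕ) : ZMod p) = 0 :=
    (ZMod.natCast_eq_zero_iff _ p).mpr ((Dvd.intro q rfl).trans (frobPQ h hp hq hpq hpqN))
  have e4 : ((1 + s 2 + s 4 + (s p + s (2 * p) + s (4 * p)) + (s q + s (2 * q) + s (4 * q)) +
      (s (p * q) + s (2 * (p * q)) + s (4 * (p * q))) : ℕ) : ZMod p) = 0 :=
    (ZMod.natCast_eq_zero_iff _ p).mpr
      ((Dvd.intro q rfl : p ∣ p * q).trans ((Dvd.intro_left 4 rfl).trans (frob4PQ h hp hq hp2 hq2 hpq h4pqN)))
  rw [hdbl p hpodd, h2, hs4] at e2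
  rw [hdbl p hpodd, hdbl q hqodd, hdbl (p * q) (hpodd.mul hqodd), h2, hs4] at e4
  push_cast at e1 e2 e3 e4
  refine ⟨e1, ?_, ?_, ?_⟩
  · linear_combination e2 - 2 * e1
  · linear_combination e3 - e1
  · linear_combination e4 - e2 - 2 * e3 + 2 * e1

/-- **A**: unique involution, `4 ∣ N`: at most one odd prime -/
theorem A_unique_inv {N : ℕ} {s : ℕ → ℕ} (h : NseSys N s) (h4 : 4 ∣ N) (h2 : s 2 = 1)
    (hdbl : ∀ d, Odd d → s (2 * d) = s d) (m n : ℕ) (hs4 : s 4 = m)
    (hV : ∀ d, 3 ≤ d → s d = 0 ∨ s d = m ∨ s d = n)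
    (p q : ℕ) (hp : p.Prime) (hq : q.Prime) (hp2 : p ≠ 2) (hq2 : q ≠ 2) (hpq : p ≠ q)
    (hpN : p ∣ N) (hqN : q ∣ N) : False := by
  have : Fact p.Prime := ⟨hp⟩
  have : Fact q.Prime := ⟨hq⟩
  have hpodd : Odd p := hp.odd_of_ne_two hp2
  have hqodd : Odd q := hq.odd_of_ne_two hq2
  have hp3 : 3 ≤ p := by
    have := hp.two_le
    omega
  have hq3 : 3 ≤ q := by
    have := hq.two_le
    omega
  have hpq3 : 3 ≤ p * q := by nlinarith
  -- `m ≡ 2 (mod 4)`
  have hm4 : 4 ∣ 2 + m := by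
    have := h.frob 4 h4
    rw [divisors_four22, Finset.sum_insert (by decide), Finset.sum_insert (by decide), Finset.sum_singleton,
      h.m_one, h2, hs4] at this
    have e : 1 + (1 + m) = 2 + m := by ring
    rwa [e] at this
  -- `s (4 d) ∈ {0, n}`
  have T : ∀ d, Odd d → 3 ≤ d → s (4 * d) = 0 ∨ s (4 * d) = n := by
    intro d hd hd3
    rcases hV (4 * d) (by omega) with h' | h' | h'
    · exact Or.inl h'
    · exfalso
      have := four_dvd_s h d hd hd3
      rw [h'] at this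
      omega
    · exact Or.inr h'
  have two_ne : ∀ (t : ℕ) [Fact t.Prime], t ≠ 2 → (2 : ZMod t) ≠ 0 := by
    intro t _ ht2 h0
    have h1 : ((2 : ℕ) : ZMod t) = 0 := by exact_mod_cast h0
    rw [ZMod.natCast_eq_zero_iff] at h1
    have := (Nat.prime_dvd_prime_iff_eq (Fact.out : t.Prime) Nat.prime_two).mp h1
    exact ht2 this
  obtain ⟨R1, R2, R3, R4⟩ := relsP h h4 h2 hdbl m hs4 p q hp hq hp2 hq2 hpq hpN hqN
  obtain ⟨S1, S2, S3, S4⟩ := relsP h h4 h2 hdbl m hs4 q p hq hp hq2 hp2 (Ne.symm hpq) hqN hpN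
  rw [mul_comm q p] at S3 S4
  -- (1) `n ≢ 0`
  have key1 : ∀ (t : ℕ) [Fact t.Prime], t ≠ 2 → 3 ≤ t → Odd t → (1 + (s t : ZMod t) = 0) →
      ((m : ZMod t) + (s (4 * t) : ZMod t) = 0) → s t ≠ 0 → (n : ZMod t) ≠ 0 := by
    intro t _ ht2 ht3 htodd r1 r2 hst0 hn0
    rcases hV t ht3 with h' | h' | h'
    · exact hst0 h'
    · rw [h'] at r1
      rcases T t htodd ht3 with h'' | h''
      · rw [h''] at r2
        have : (1 : ZMod t) = 0 := by
          push_cast at r2
          linear_combination r1 - r2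
        exact one_ne_zero this
      · rw [h'', hn0] at r2
        have : (1 : ZMod t) = 0 := by linear_combination r1 - r2
        exact one_ne_zero this
    · rw [h', hn0] at r1
      have : (1 : ZMod t) = 0 := by linear_combination r1
      exact one_ne_zero this
  have hnp : (n : ZMod p) ≠ 0 := key1 p hp2 hp3 hpodd R1 R2 (h.cauchy p hp hpN)
  have hnq : (n : ZMod q) ≠ 0 := key1 q hq2 hq3 hqodd S1 S2 (h.cauchy q hq hqN)
  -- (2) `s (4 q) = 0`, `s (4 p) = 0`
  have key2 : ∀ (t : ℕ) [Fact t.Prime], t ≠ 2 → (n : ZMod t) ≠ 0 → ∀ x y : ℕ, (x = 0 ∨ x = n) → (y = 0 ∨ y = n) →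
      ((x : ZMod t) + (y : ZMod t) = 0) → x = 0 := by
    intro t _ ht2 hn0 x y hx hy hxy
    rcases hx with hx | hx
    · exact hx
    · exfalso
      rw [hx] at hxy
      rcases hy with hy | hy
      · rw [hy] at hxy
        apply hn0
        push_cast at hxy
        linear_combination hxy
      · rw [hy] at hxy
        have h2n : (2 : ZMod t) * (n : ZMod t) = 0 := by linear_combination hxy
        rcases mul_eq_zero.mp h2n with h' | h'
        · exact two_ne t ht2 h'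
        · exact hn0 h'
  have h4q0 : s (4 * q) = 0 := key2 p hp2 hnp _ _ (T q hqodd hq3) (T (p * q) (hpodd.mul hqodd) hpq3) R4
  have h4p0 : s (4 * p) = 0 := key2 q hq2 hnq _ _ (T p hpodd hp3) (T (p * q) (hpodd.mul hqodd) hpq3) S4
  -- (3)
  rw [h4p0] at R2
  rw [h4q0] at S2
  push_cast at R2 S2
  have hmp : (m : ZMod p) = 0 := by linear_combination R2
  have hmq : (m : ZMod q) = 0 := by linear_combination S2
  have hspn : s p = n := by
    rcases hV p hp3 with h' | h' | h'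
    · exact absurd h' (h.cauchy p hp hpN)
    · exfalso
      rw [h', hmp] at R1
      exact one_ne_zero (by linear_combination R1 : (1 : ZMod p) = 0)
    · exact h'
  have hsqn : s q = n := by
    rcases hV q hq3 with h' | h' | h'
    · exact absurd h' (h.cauchy q hq hqN)
    · exfalso
      rw [h', hmq] at S1
      exact one_ne_zero (by linear_combination S1 : (1 : ZMod q) = 0)
    · exact h'
  rw [hspn] at R1
  rw [hsqn] at R3
  rcases hV (p * q) hpq3 with h' | h' | h'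
  · rw [h'] at R3
    push_cast at R3
    exact one_ne_zero (by linear_combination R1 - R3 : (1 : ZMod p) = 0)
  · rw [h', hmp] at R3
    exact one_ne_zero (by linear_combination R1 - R3 : (1 : ZMod p) = 0)
  · rw [h'] at R3
    have h2' : (2 : ZMod p) = 0 := by linear_combination 2 * R1 - R3
    exact two_ne p hp2 h2'

end Cfsg.Agent.Lib.Helper22.SOT
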