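import Mathlib
import Cfsg.Agent.Lib.Helper12.NseA
import Cfsg.Agent.Lib.Helper22.SOT.Codd
import Cfsg.Agent.Lib.Helper22.SOT.LeafA
import Cfsg.Agent.Lib.Helper12.SOTC2
import Cfsg.Agent.Lib.Helper24.SOTC1
import Cfsg.Agent.Lib.Helper8.SOTD
import Cfsg.Agent.Lib.Helper26.SOTE
import Cfsg.Agent.Lib.Helper28.SOTB
import Cfsg.Agent.Lib.Helper28.SOTP

/-!
S3996: assembly (helper22).  Leaves: A = Helper22.SOT.A_unique_inv, B + P = helper28, C1 = helper24, C2 = helper12,
D = helper8, E = helper26; plan `notes/S3996_leaves.lean`.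
-/

set_option autoImplicit false

namespace Cfsg.Agent.Lib.Helper22.SOTAsm
open Cfsg.Agent.Lib.Helper12.Nse

/-- no two distinct odd primes: at most two prime divisors -/
theorem card_primeFactors_le_two_of_odd_primes {N : ℕ}
    (h : ∀ p q : ℕ, p.Prime → q.Prime → p ≠ 2 → q ≠ 2 → p ≠ q → p ∣ N → q ∣ N → False) :
    N.primeFactors.card ≤ 2 := by
  by_contra hcon
  rw [not_le] at hcon
  obtain ⟨a, ha, b, hb, c, hc, hab, hac, hbc⟩ := Finset.two_lt_card.mp hcon
  have pa := Nat.prime_of_mem_primeFactors ha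
  have pb := Nat.prime_of_mem_primeFactors hb
  have pc := Nat.prime_of_mem_primeFactors hc
  have da := Nat.dvd_of_mem_primeFactors ha
  have db := Nat.dvd_of_mem_primeFactors hb
  have dc := Nat.dvd_of_mem_primeFactors hc
  by_cases a2 : a = 2
  · have b2 : b ≠ 2 := fun hh => hab (a2.trans hh.symm)
    have c2 : c ≠ 2 := fun hh => hac (a2.trans hh.symm)
    exact h b c pb pc b2 c2 hbc db dc
  · by_cases b2 : b = 2
    · have c2 : c ≠ 2 := fun hh => hbc (b2.trans hh.symm)
      exact h a c pa pc a2 c2 hac da dc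
    · exact h a b pa pb a2 b2 hab da db

/-- no three distinct primes: at most two prime divisors -/
theorem card_primeFactors_le_two_of_three {N : ℕ}
    (h : ∀ p q r : ℕ, p.Prime → q.Prime → r.Prime → p ≠ q → p ≠ r → q ≠ r → p ∣ N → q ∣ N → r ∣ N → False) :
    N.primeFactors.card ≤ 2 := by
  by_contra hcon
  rw [not_le] at hcon
  obtain ⟨a, ha, b, hb, c, hc, hab, hac, hbc⟩ := Finset.two_lt_card.mp hcon
  exact h a b c (Nat.prime_of_mem_primeFactors ha) (Nat.prime_of_mem_primeFactors hb)
    (Nat.prime_of_mem_primeFactors hc) hab hac hbc (Nat.dvd_of_mem_primeFactors ha)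
    (Nat.dvd_of_mem_primeFactors hb) (Nat.dvd_of_mem_primeFactors hc)

/-- `s d` is even for `d ≥ 3` -/
theorem even_of_three_le {N : ℕ} {s : ℕ → ℕ} (h : NseSys N s) (d : ℕ) (hd : 3 ≤ d) : Even (s d) := by
  have h1 : Even (Nat.totient d) := Nat.totient_even (by omega)
  exact (even_iff_two_dvd.mp h1).trans (h.tot d) |> even_iff_two_dvd.mpr

/-- the odd order case: solvable -/
theorem solvable_of_odd {G : Type*} [Group G] [Finite G] (hodd : Odd (Nat.card G)) (m n : ℕ)
    (hV : ∀ d, 3 ≤ d → Nat.card {g : G // orderOf g = d} = 0 ∨ Nat.card {g : G // orderOf g = d} = m ∨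
      Nat.card {g : G // orderOf g = d} = n) : Group.IsSolvable G := by
  apply Cfsg.Agent.Lib.Helper28.SOT.P_solvable
  apply card_primeFactors_le_two_of_three
  intro p q r hp hq hr hpq hpr hqr hpN hqN hrN
  exact Cfsg.Agent.Lib.Helper22.SOTC.C_odd_of (nseSys_of_group G) hodd m n hV
    (fun p q r hp hq hr hpq hpr hqr hpN hqN hrN =>
      Cfsg.Agent.Lib.Helper24.SOT.C1_uniform (nseSys_of_group G) hodd m n hV p q r hp hq hr hpq hpr hqr hpN hqN hrN)
    (fun p q r hp hq hr hpq hpr hqr hpN hqN hrN v hvp hvq hvr =>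
      Cfsg.Agent.Lib.Helper12.SOT.C2_ppart (nseSys_of_group G) hodd m n hV p q r hp hq hr hpq hpr hqr hpN hqN hrN
        v hvp hvq hvr)
    p q r hp hq hr hpq hpr hqr hpN hqN hrN

/-- **S3996** -/
theorem main {G : Type*} [Group G] [Finite G]
    (h : (((fun m : ℕ => Nat.card {g : G // orderOf g = m}) '' Set.range (orderOf : G → ℕ))).ncard = 3) :
    Group.IsSolvable G := by
  classical
  set s : ℕ → ℕ := fun d => Nat.card {g : G // orderOf g = d} with hs
  have hsys : NseSys (Nat.card G) s := nseSys_of_group G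
  set T : Set ℕ := s '' Set.range (orderOf : G → ℕ) with hT
  have hmemT : ∀ d, s d ≠ 0 → s d ∈ T := by
    intro d hd
    have : Nonempty {g : G // orderOf g = d} := by
      by_contra hne
      rw [not_nonempty_iff] at hne
      exact hd Nat.card_of_isEmpty
    obtain ⟨⟨g, hg⟩⟩ := this
    exact ⟨d, ⟨g, hg⟩, rfl⟩
  have h1T : (1 : ℕ) ∈ T := by
    have := hmemT 1 (by rw [hsys.m_one]; exact one_ne_zero)
    rwa [hsys.m_one] at this
  -- the two other values
  obtain ⟨m, n, hV⟩ : ∃ m n : ℕ, ∀ d, s d ≠ 0 → s d = 1 ∨ s d = m ∨ s d = n := by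
    obtain ⟨x, y, z, hxy, hxz, hyz, hTe⟩ := Set.ncard_eq_three.mp h
    have h1 : (1 : ℕ) ∈ ({x, y, z} : Set ℕ) := hTe ▸ h1T
    have hall : ∀ d, s d ≠ 0 → s d = x ∨ s d = y ∨ s d = z := by
      intro d hd
      have := hmemT d hd
      rw [hTe] at this
      simpa using this
    simp only [Set.mem_insert_iff, Set.mem_singleton_iff] at h1
    rcases h1 with rfl | rfl | rfl
    · exact ⟨y, z, hall⟩
    · refine ⟨x, z, fun d hd => ?_⟩
      rcases hall d hd with h' | h' | h'
      · exact Or.inr (Or.inl h')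
      · exact Or.inl h'
      · exact Or.inr (Or.inr h')
    · refine ⟨x, y, fun d hd => ?_⟩
      rcases hall d hd with h' | h' | h'
      · exact Or.inr (Or.inl h')
      · exact Or.inr (Or.inr h')
      · exact Or.inl h'
  have hV3 : ∀ d, 3 ≤ d → s d = 0 ∨ s d = m ∨ s d = n := by
    intro d hd
    by_cases h0 : s d = 0
    · exact Or.inl h0
    · right
      rcases hV d h0 with h' | h' | h'
      · exfalso
        have := even_of_three_le hsys d hd
        rw [h'] at this
        exact absurd this (by decide)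
      · exact Or.inl h'
      · exact Or.inr h'
  rcases Nat.even_or_odd (Nat.card G) with heven | hodd
  swap
  · exact solvable_of_odd hodd m n hV3
  -- `N` even
  have h2N : 2 ∣ Nat.card G := even_iff_two_dvd.mp heven
  have hf2 : 2 ∣ 1 + s 2 := by
    have := hsys.frob 2 h2N
    rw [Nat.Prime.sum_divisors Nat.prime_two, hsys.m_one, add_comm] at this
    exact this
  have hs20 : s 2 ≠ 0 := by
    intro h0
    rw [h0] at hf2
    omega
  by_cases hs2 : s 2 = 1
  swap
  · -- many involutions: one value for `d ≥ 3`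
    have hs2odd : ¬ Even (s 2) := by
      intro he
      obtain ⟨c, hc⟩ := he
      omega
    have hone : ∃ n' : ℕ, ∀ d, 3 ≤ d → s d = 0 ∨ s d = n' := by
      rcases hV 2 hs20 with h' | h' | h'
      · exact absurd h' hs2
      · refine ⟨n, fun d hd => ?_⟩
        rcases hV3 d hd with h'' | h'' | h''
        · exact Or.inl h''
        · exfalso
          have := even_of_three_le hsys d hd
          rw [h'', ← h'] at this
          exact hs2odd this
        · exact Or.inr h''
      · refine ⟨m, fun d hd => ?_⟩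
        rcases hV3 d hd with h'' | h'' | h''
        · exact Or.inl h''
        · exact Or.inr h''
        · exfalso
          have := even_of_three_le hsys d hd
          rw [h'', ← h'] at this
          exact hs2odd this
    obtain ⟨n', hn'⟩ := hone
    apply Cfsg.Agent.Lib.Helper28.SOT.P_solvable
    apply card_primeFactors_le_two_of_odd_primes
    intro p q hp hq hp2 hq2 hpq hpN hqN
    exact Cfsg.Agent.Lib.Helper28.SOT.B_one_value hsys n' hn' p q hp hq hp2 hq2 hpq hpN hqN
  -- unique involution
  by_cases h4 : 4 ∣ Nat.card G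
  · have hf4 : 4 ∣ 1 + s 2 + s 4 := by
      have := hsys.frob 4 h4
      have hd4 : Nat.divisors 4 = {1, 2, 4} := by decide
      rw [hd4, Finset.sum_insert (by decide), Finset.sum_insert (by decide), Finset.sum_singleton,
        hsys.m_one, ← add_assoc] at this
      exact this
    have hs40 : s 4 ≠ 0 := by
      intro h0
      rw [h0, hs2] at hf4
      omega
    have hdbl : ∀ d, Odd d → s (2 * d) = s d := fun d hd => Cfsg.Agent.Lib.Helper26.SOT.E_double hs2 d hd
    apply Cfsg.Agent.Lib.Helper28.SOT.P_solvable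
    apply card_primeFactors_le_two_of_odd_primes
    intro p q hp hq hp2 hq2 hpq hpN hqN
    rcases hV3 4 (by norm_num) with h' | h' | h'
    · exact hs40 h'
    · exact Cfsg.Agent.Lib.Helper22.SOT.A_unique_inv hsys h4 hs2 hdbl m n h' hV3 p q hp hq hp2 hq2 hpq hpN hqN
    · refine Cfsg.Agent.Lib.Helper22.SOT.A_unique_inv hsys h4 hs2 hdbl n m h' (fun d hd => ?_) p q hp hq hp2 hq2 hpq hpN hqN
      rcases hV3 d hd with h'' | h'' | h''
      · exact Or.inl h''
      · exact Or.inr (Or.inr h'')
      · exact Or.inr (Or.inl h'')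
  · -- `N = 2 * odd`
    obtain ⟨k, hk⟩ := h2N
    have hkodd : Odd k := by
      rcases Nat.even_or_odd k with he | ho
      · exfalso
        obtain ⟨c, hc⟩ := he
        apply h4
        rw [hk, hc]
        exact ⟨c, by ring⟩
      · exact ho
    obtain ⟨Y, hYn, hYi, hYc, hYs⟩ := Cfsg.Agent.Lib.Helper8.SOT.D_index_two hkodd hk
    have hYodd : Odd (Nat.card Y) := hYc ▸ hkodd
    have hYsolv : Group.IsSolvable Y := by
      apply solvable_of_odd hYodd m n
      intro d hd
      rcases Nat.even_or_odd d with he | ho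
      · left
        have : IsEmpty {g : Y // orderOf g = d} := by
          constructor
          rintro ⟨g, hg⟩
          have h1 : orderOf g ∣ Nat.card Y := orderOf_dvd_natCard g
          rw [hg] at h1
          have h2 : 2 ∣ Nat.card Y := (even_iff_two_dvd.mp he).trans h1
          exact (Nat.not_even_iff_odd.mpr hYodd) (even_iff_two_dvd.mpr h2)
        exact Nat.card_of_isEmpty
      · rw [hYs d ho]
        exact hV3 d hd
    have hQ : Group.IsSolvable (G ⧸ Y) := by
      have hc2 : Nat.card (G ⧸ Y) = 2 := hYi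
      have : Fact (Nat.Prime 2) := ⟨Nat.prime_two⟩
      have hcyc : IsCyclic (G ⧸ Y) := isCyclic_of_prime_card hc2
      have : CommGroup (G ⧸ Y) := IsCyclic.commGroup
      infer_instance
    exact Group.isSolvable_of_ker_le_range Y.subtype (QuotientGroup.mk' Y)
      (by rw [QuotientGroup.ker_mk', Subgroup.range_subtype])

end Cfsg.Agent.Lib.Helper22.SOTAsm
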